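import Mathlib.FieldTheory.Finite.Basic
import Mathlib.GroupTheory.NoncommPiCoprod
import Cfsg.Agent.H1.Glauberman
import Cfsg.Agent.H54.FT

/-! Coprime action and ZJ (S3260): generic tools. -/

set_option autoImplicit false

namespace Cfsg.Agent.GZJ
open Subgroup

theorem solv_or {A B : Type*} [Group A] [Group B] [Finite A] [Finite B]
    (h : (Nat.card A).Coprime (Nat.card B)) : Group.IsSolvable A ∨ Group.IsSolvable B := by
  rcases Nat.even_or_odd (Nat.card A) with h1 | h1
  · exact Or.inr (H54.odd_order_solvable (Nat.coprime_two_left.1 (h.coprime_dvd_left h1.two_dvd)))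
  · exact Or.inl (H54.odd_order_solvable h1)

/-- the fixed point lemma -/
theorem fixed_pt {Γ α : Type*} [Group Γ] [Finite Γ] (act : Γ → α → α) (h1 : ∀ a, act 1 a = a)
    (hm : ∀ g h a, act (g * h) a = act g (act h a)) {R N : Subgroup Γ} (hn : R ≤ normalizer (N : Set Γ))
    (hc : (Nat.card R).Coprime (Nat.card N)) (a : α) (h : ∀ ρ ∈ R, ∃ n ∈ N, act ρ a = act n a) :
    ∃ n ∈ N, ∀ ρ ∈ R, act ρ (act n a) = act n a := by
  let : MulAction Γ α := { smul := act, one_smul := h1, mul_smul := hm }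
  obtain ⟨n, hn', h2⟩ := H1.glauberman_fixed R N hn hc (solv_or hc) (MulAction.stabilizer Γ a) fun ρ hρ => by
    obtain ⟨n, hn, e⟩ := h ρ hρ
    refine ⟨n, hn, ?_⟩
    rw [MulAction.mem_stabilizer_iff, mul_smul, inv_smul_eq_iff]
    exact e
  refine ⟨n, hn', fun ρ hρ => ?_⟩
  have := h2 ρ hρ
  rw [MulAction.mem_stabilizer_iff, mul_smul, mul_smul, inv_smul_eq_iff] at this
  exact this

/-- fixed points lift along homomorphisms -/
theorem lift_fixed {X Y : Type*} [Group X] [Finite X] [Group Y] (f : X →* Y) {G R : Subgroup X}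
    (hn : R ≤ normalizer (G : Set X)) (hc : (Nat.card R).Coprime (Nat.card G)) {y : Y} (hy : y ∈ G.map f)
    (h : y ∈ centralizer (R.map f : Set Y)) : y ∈ (G ⊓ centralizer (R : Set X)).map f := by
  obtain ⟨k, hk, rfl⟩ := hy
  have hc' : (Nat.card R).Coprime (Nat.card ↥(G ⊓ f.ker)) := hc.coprime_dvd_right (card_dvd_of_le inf_le_left)
  obtain ⟨n, hn', h1⟩ := H1.coset_fixed R (G ⊓ f.ker)
    ((le_inf hn le_normalizer_of_normal).trans inf_normalizer_le_normalizer_inf) hc' (solv_or hc') k fun a ha =>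
      ⟨by
        have := G.mul_mem (G.inv_mem hk) ((mem_normalizer_iff.1 (hn ha) k).1 hk)
        rw [← mul_assoc, ← mul_assoc] at this
        exact this, by
        have := h _ (mem_map_of_mem f ha)
        show f _ = 1
        rw [map_mul, map_mul, map_mul, mul_assoc (f k⁻¹), this, map_inv, map_inv]
        group⟩
  exact ⟨k * n, ⟨G.mul_mem hk hn'.1, h1⟩, by rw [map_mul, (hn'.2 : f n = 1), mul_one]⟩

theorem involves_of_hom {X Y H P : Type*} [Group X] [Group Y] [Group H] [Group P] (f : X →* Y) {C : Subgroup X}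
    (Φ : H →* Y) (hΦ : ∀ h, Φ h ∈ C.map f) (π : H →* P) (hπ : Function.Surjective π) (hk : Φ.ker ≤ π.ker) :
    ∃ (K : Subgroup C) (ψ : K →* P), Function.Surjective ψ := by
  let g : Φ.range →* P := Φ.rangeRestrict.liftOfSurjective Φ.rangeRestrict_surjective
    ⟨π, by rwa [MonoidHom.ker_rangeRestrict]⟩
  have hg : ∀ h, g (Φ.rangeRestrict h) = π h := fun h => MonoidHom.liftOfRightInverse_comp_apply _ _ _ _ h
  refine ⟨Φ.range.comap (f.comp C.subtype), g.comp ((f.comp C.subtype).subgroupComap Φ.range), fun z => ?_⟩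
  obtain ⟨h, rfl⟩ := hπ z
  obtain ⟨c, hc, e⟩ := hΦ h
  refine ⟨⟨⟨c, hc⟩, h, e.symm⟩, ?_⟩
  rw [← hg]
  exact congrArg g (Subtype.ext e)

/-- the norm map along commuting conjugates -/
theorem diag {H Γ : Type*} [Group H] [Group Γ] (φ : H →* Γ) (G R : Subgroup Γ) [Finite R]
    (hG : ∀ ρ ∈ R, ∀ h, ρ * φ h * ρ⁻¹ ∈ G)
    (hd : ∀ ρ ∈ R, (∀ h, ρ * φ h * ρ⁻¹ = φ h) ∨ ∀ h h', Commute (φ h) (ρ * φ h' * ρ⁻¹)) :
    ∃ Φ : H →* Γ, (∀ h, Φ h ∈ G) ∧ (∀ h, Φ h ∈ centralizer (R : Set Γ)) ∧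
      ∀ h, Φ h = 1 → ∀ h', Commute (φ h) (φ h') := by
  classical
  let c : Γ → (H →* Γ) → (H →* Γ) := fun ρ ψ => (MulAut.conj ρ).toMonoidHom.comp ψ
  have hc : ∀ ρ ψ h, c ρ ψ h = ρ * ψ h * ρ⁻¹ := fun _ _ _ => rfl
  have hcc : ∀ ρ σ ψ, c ρ (c σ ψ) = c (ρ * σ) ψ := fun ρ σ ψ => by ext h; simp only [hc]; group
  have hc1 : ∀ ψ, c 1 ψ = ψ := fun ψ => by ext h; simp [hc]
  let I := Set.range fun ρ : R => c ρ φ
  let : Fintype I := Fintype.ofFinite I
  have hcomm : Pairwise fun i j : I => ∀ x y, Commute (i.1 x) (j.1 y) := by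
    rintro ⟨_, ρ, rfl⟩ ⟨_, σ, rfl⟩ hne x y
    rcases hd _ (R.mul_mem (R.inv_mem ρ.2) σ.2) with h1 | h1
    · refine (hne (Subtype.ext (MonoidHom.ext fun h => ?_))).elim
      simp only [hc]
      conv_lhs => rw [← h1 h]
      group
    · have := (h1 x y).map (MulAut.conj (ρ : Γ))
      simp only [MulAut.conj_apply] at this
      show Commute (ρ * φ x * (ρ : Γ)⁻¹) (σ * φ y * (σ : Γ)⁻¹)
      convert this using 1
      group
  let P := MonoidHom.noncommPiCoprod (N := fun _ : I => H) (fun i => i.1) hcomm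
  have hm : ∀ σ ∈ R, ∀ i : I, c σ i.1 ∈ I := by
    rintro σ hσ ⟨_, ρ, rfl⟩
    exact ⟨⟨σ * ρ, R.mul_mem hσ ρ.2⟩, (hcc _ _ _).symm⟩
  refine ⟨P.comp (Pi.constMonoidHom I H), fun h => ?_, fun h σ hσ => ?_, fun h h1 h' => ?_⟩
  · refine G.noncommProd_mem (fun _ _ _ _ h => hcomm h _ _) ?_
    rintro ⟨_, ρ, rfl⟩ -
    exact hG ρ ρ.2 h
  · have h1 : (MulAut.conj σ).toMonoidHom.comp P = P.comp (MonoidHom.pi fun j : I =>
        Pi.evalMonoidHom (fun _ : I => H) ⟨c σ⁻¹ j.1, hm _ (R.inv_mem hσ) j⟩) := by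
      refine MonoidHom.pi_ext fun i x => ?_
      have h2 : (MonoidHom.pi fun j : I => Pi.evalMonoidHom (fun _ : I => H) ⟨c σ⁻¹ j.1, hm _ (R.inv_mem hσ) j⟩)
          (Pi.mulSingle i x) = Pi.mulSingle (⟨c σ i.1, hm _ hσ i⟩ : I) x := by
        funext j
        show (Pi.mulSingle i x : I → H) ⟨c σ⁻¹ j.1, hm _ (R.inv_mem hσ) j⟩ = _
        simp only [Pi.mulSingle_apply]
        refine if_congr ⟨?_, ?_⟩ rfl rfl
        · rintro rfl
          exact Subtype.ext (by simp only [hcc, mul_inv_cancel, hc1])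
        · rintro rfl
          exact Subtype.ext (by simp only [hcc, inv_mul_cancel, hc1])
      rw [MonoidHom.comp_apply, MonoidHom.comp_apply, h2, MonoidHom.noncommPiCoprod_mulSingle,
        MonoidHom.noncommPiCoprod_mulSingle]
      rfl
    have h2 : σ * P (fun _ => h) * σ⁻¹ = P fun _ => h := DFunLike.congr_fun h1 fun _ => h
    exact mul_inv_eq_iff_eq_mul.1 h2
  · let i₀ : I := ⟨φ, 1, hc1 φ⟩
    have h2 : (fun _ => h) = Pi.mulSingle i₀ h * Function.update (fun _ : I => h) i₀ 1 := by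
      funext j
      by_cases e : j = i₀
      · subst e; simp
      · simp [e]
    have h3 : P (fun _ => h) = 1 := h1
    rw [h2, map_mul, MonoidHom.noncommPiCoprod_mulSingle, mul_eq_one_iff_eq_inv] at h3
    have h4 : Commute (φ h') (P (Function.update (fun _ : I => h) i₀ 1)) := by
      refine Finset.noncommProd_commute _ _ (fun _ _ _ _ h => hcomm h _ _) _ fun j _ => ?_
      by_cases e : j = i₀
      · subst e; simp
      · exact hcomm (Ne.symm e) _ _
    exact (h3 ▸ h4.inv_right : Commute (φ h') (φ h)).symm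

theorem sum_sq {F : Type*} [CommRing F] [IsDomain F] [Finite F] (h2 : ∀ a : F, a + a = 0 → a = 0) {S T : F}
    (hS : S ≠ 0) (hT : T ≠ 0) : ∃ a b : F, S * (a * a) + T * (b * b) = 1 := by
  let := Fintype.ofFinite F
  have h1 : Fintype.card F % 2 = 1 := by
    by_contra h
    obtain ⟨a, ha⟩ := exists_prime_addOrderOf_dvd_card (G := F) 2 (by omega)
    have h3 := addOrderOf_nsmul_eq_zero a
    rw [ha, two_nsmul] at h3
    rw [h2 a h3] at ha
    simp at ha
  obtain ⟨a, b, h⟩ := FiniteField.exists_root_sum_quadratic (Polynomial.degree_quadratic (b := 0) (c := 0) hS)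
    (Polynomial.degree_quadratic (b := 0) (c := -1) hT) h1
  refine ⟨a, b, ?_⟩
  simp at h
  linear_combination h

/-- a finite special Jordan division algebra has no anticommuting elements -/
theorem jordan {k A : Type*} [Field k] [Ring A] [Algebra k A] [Finite A] (h2 : (2 : k) ≠ 0) (K : Submodule k A) {e : A}
    (he : e ∈ K) (h1 : ∀ a ∈ K, e * a = a) (h1' : ∀ a ∈ K, a * e = a) (hsq : ∀ a ∈ K, a * a ∈ K)
    (hz : ∀ a ∈ K, ∀ b ∈ K, a * b = 0 → a = 0 ∨ b = 0) {s t : A} (hs : s ∈ K) (ht : t ∈ K)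
    (h : s * t + t * s = 0) : s = 0 ∨ t = 0 := by
  by_contra hne
  rw [not_or] at hne
  have half : ∀ a : A, a + a = 0 → a = 0 := fun a ha => by
    rw [← two_smul k] at ha
    exact (smul_eq_zero.1 ha).resolve_left h2
  have hmul : ∀ a ∈ K, ∀ b ∈ K, a * b = b * a → a * b ∈ K := fun a ha b hb e => by
    have h3 := K.smul_mem (2 : k)⁻¹ (K.sub_mem (K.sub_mem (hsq _ (K.add_mem ha hb)) (hsq a ha)) (hsq b hb))
    have h4 : (a + b) * (a + b) - a * a - b * b = (2 : k) • (a * b) := by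
      rw [two_smul]; linear_combination (norm := noncomm_ring) -e
    rwa [h4, inv_smul_smul₀ h2] at h3
  let F := NonUnitalSubring.closure ({e, s * s, t * t} : Set A)
  have hc : F ≤ NonUnitalSubring.centralizer ({e, s, t} : Set A) := NonUnitalSubring.closure_le.2 (by
    rintro _ (rfl | rfl | rfl) _ (rfl | rfl | rfl)
    · rfl
    · rw [h1 _ hs, h1' _ hs]
    · rw [h1 _ ht, h1' _ ht]
    · rw [h1 _ (hsq _ hs), h1' _ (hsq _ hs)]
    · rw [mul_assoc]
    · linear_combination (norm := noncomm_ring) h * s - s * h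
    · rw [h1 _ (hsq _ ht), h1' _ (hsq _ ht)]
    · linear_combination (norm := noncomm_ring) h * t - t * h
    · rw [mul_assoc])
  have cs : ∀ a ∈ F, s * a = a * s := fun a ha => hc ha s (by simp)
  have ct : ∀ a ∈ F, t * a = a * t := fun a ha => hc ha t (by simp)
  have hcomm : ∀ a ∈ F, ∀ b ∈ F, a * b = b * a := fun a ha b hb => by
    have : F ≤ NonUnitalSubring.centralizer ({a} : Set A) := NonUnitalSubring.closure_le.2 (by
      rintro _ (rfl | rfl | rfl) _ rfl
      · exact (hc ha _ (by simp)).symm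
      · rw [← mul_assoc, ← cs _ ha, mul_assoc, ← cs _ ha, mul_assoc]
      · rw [← mul_assoc, ← ct _ ha, mul_assoc, ← ct _ ha, mul_assoc])
    exact this hb a rfl
  have hK : ∀ a ∈ F, a ∈ K := fun a ha => by
    induction ha using NonUnitalSubring.closure_induction with
    | mem x hx => rcases hx with rfl | rfl | rfl; exacts [he, hsq _ hs, hsq _ ht]
    | zero => exact K.zero_mem
    | neg x _ hx => exact K.neg_mem hx
    | add x y _ _ hx hy => exact K.add_mem hx hy
    | mul x y hx' hy' hx hy => exact hmul x hx y hy (hcomm x hx' y hy')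
  have e0 : e ≠ 0 := fun e0 => hne.1 (by rw [← h1 s hs, e0, zero_mul])
  let : CommRing F :=
    { (inferInstance : NonUnitalRing F) with
      one := ⟨e, NonUnitalSubring.subset_closure (by simp)⟩
      one_mul := fun a => Subtype.ext (h1 a (hK a a.2))
      mul_one := fun a => Subtype.ext (h1' a (hK a a.2))
      mul_comm := fun a b => Subtype.ext (hcomm a a.2 b b.2) }
  have : Nontrivial F := ⟨1, 0, fun h => e0 (congrArg Subtype.val h)⟩
  have : NoZeroDivisors F := ⟨fun {a b} h =>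
    (hz a (hK a a.2) b (hK b b.2) (congrArg Subtype.val h)).imp Subtype.ext Subtype.ext⟩
  have : IsDomain F := NoZeroDivisors.to_isDomain F
  obtain ⟨⟨a, ha⟩, ⟨b, hb⟩, h3⟩ := sum_sq (F := F) (fun a ha => Subtype.ext (half a (congrArg Subtype.val ha)))
    (S := ⟨s * s, NonUnitalSubring.subset_closure (by simp)⟩) (T := ⟨t * t, NonUnitalSubring.subset_closure (by simp)⟩)
    (fun h => hne.1 ((hz s hs s hs (congrArg Subtype.val h)).elim id id))
    (fun h => hne.2 ((hz t ht t ht (congrArg Subtype.val h)).elim id id))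
  have h4 : s * s * (a * a) + t * t * (b * b) = e := congrArg Subtype.val h3
  have as := hmul a (hK a ha) s hs (cs a ha).symm
  have bt := hmul b (hK b hb) t ht (ct b hb).symm
  have bs := hmul b (hK b hb) s hs (cs b hb).symm
  have at' := hmul a (hK a ha) t ht (ct a ha).symm
  have hτ := K.add_mem as bt
  have h5 : (a * s + b * t) * (a * s + b * t) = e := by
    have r : ∀ {u v : A}, u * v = v * u → ∀ z, u * (v * z) = v * (u * z) := fun h z => by
      rw [← mul_assoc, h, mul_assoc]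
    have := congrArg (a * b * ·) h
    rw [← h4]
    simp only [mul_add, add_mul, mul_assoc, cs a ha, r (cs a ha), r (cs b hb), r (ct a ha), ct b hb,
      r (ct b hb), r (hcomm b hb a ha), mul_zero] at this ⊢
    linear_combination (norm := noncomm_ring) this
  have h6 : ∀ u ∈ K, u * (a * s + b * t) = (a * s + b * t) * u := fun u hu => by
    rcases hz _ (K.add_mem he hτ) _ (K.sub_mem he hτ) (by
      rw [add_mul, mul_sub, mul_sub, h1 e he, h1 _ hτ, h1' _ hτ, h5]; abel) with h7 | h7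
    · rw [← neg_eq_of_add_eq_zero_right h7, mul_neg, neg_mul, h1 u hu, h1' u hu]
    · rw [← sub_eq_zero.1 h7, h1 u hu, h1' u hu]
  have hb0 : b = 0 := ((hz b (hK b hb) s hs) (((hz _ bs t ht) (half _ (by
    linear_combination (norm := noncomm_ring) h6 s hs + b * h - cs a ha * s - cs b hb * t))).resolve_right
      hne.2)).resolve_right hne.1
  have ha0 : a = 0 := ((hz a (hK a ha) t ht) (((hz _ at' s hs) (half _ (by
    linear_combination (norm := noncomm_ring) h6 t ht + a * h - ct b hb * t - ct a ha * s))).resolve_right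
      hne.1)).resolve_right hne.2
  exact e0 (by rw [← h4, ha0, hb0]; simp)

theorem three_sets {α : Type*} {E O₁ O₂ O₃ : Set α} (hE : E.Finite) (h0 : E.Nonempty) (h1 : O₁ ⊆ E) (h2 : O₂ ⊆ E)
    (h3 : O₃ ⊆ E) (c1 : E.ncard ≤ 2 * O₁.ncard) (c2 : E.ncard ≤ 2 * O₂.ncard) (c3 : E.ncard ≤ 2 * O₃.ncard)
    (d1 : Disjoint O₁ O₂) (d2 : Disjoint O₁ O₃) (d3 : Disjoint O₂ O₃) : False := by
  have e1 := Set.ncard_union_eq d1 (hE.subset h1) (hE.subset h2)
  have e2 := Set.ncard_union_eq (Set.disjoint_union_left.2 ⟨d2, d3⟩) ((hE.subset h1).union (hE.subset h2))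
    (hE.subset h3)
  have e3 := Set.ncard_le_ncard (Set.union_subset (Set.union_subset h1 h2) h3) hE
  have e4 := (Set.ncard_pos hE).2 h0
  omega

theorem ncard_le_two_mul {α : Type*} [Neg α] {E O : Set α} (hE : E.Finite) (hO : O.Finite) (f : α → α)
    (h1 : ∀ a ∈ E, f a ∈ O) (h2 : ∀ a ∈ E, ∀ b ∈ E, f a = f b → b = a ∨ b = -a) : E.ncard ≤ 2 * O.ncard := by
  classical
  rw [Set.ncard_eq_toFinset_card E hE, Set.ncard_eq_toFinset_card O hO]
  refine Finset.card_le_mul_card_image_of_maps_to (f := f) (by simpa using h1) 2 fun b _ => ?_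
  rcases (hE.toFinset.filter fun a => f a = b).eq_empty_or_nonempty with h | ⟨a, ha⟩
  · simp [h]
  · refine (Finset.card_le_card fun c hc => ?_).trans (Finset.card_le_two (a := a) (b := -a))
    simp only [Finset.mem_filter, Set.Finite.mem_toFinset] at ha hc
    simpa using h2 a ha.1 c hc.1 (ha.2.trans hc.2.symm)

end Cfsg.Agent.GZJ
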