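import Cfsg.Agent.FZJ.Step
import Cfsg.Agent.GZJ.Gen

/-! Coprime action and ZJ (S3260): a quadratic element gives `SL₂(p)` in the fixed points. -/

set_option autoImplicit false
set_option linter.unusedSimpArgs false

namespace Cfsg.Agent.GZJ
open Cfsg Cfsg.Agent.H90 Cfsg.Agent.FZJ LinearMap

theorem orbit_fix {Γ α : Type*} [Group Γ] (act : Γ → α → α) (h1 : ∀ a, act 1 a = a)
    (hm : ∀ g h a, act (g * h) a = act g (act h a)) {H : Subgroup Γ} {E : Set α} (hE : E.Finite)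
    (hH : ∀ h ∈ H, ∀ z ∈ E, act h z ∈ E) (hc : ∀ z ∈ E, E.ncard ≤ 2 * {c | ∃ h ∈ H, act h z = c}.ncard) {σ : Γ}
    (hσ : σ ∈ Subgroup.normalizer (H : Set Γ)) (hσE : ∀ z ∈ E, act σ z ∈ E) {x : α} (hx : x ∈ E) :
    ∃ h ∈ H, act (σ * σ) x = act h x := by
  by_contra hne
  have hd : ∀ z z', (¬ ∃ h ∈ H, z' = act h z) → Disjoint {c | ∃ h ∈ H, act h z = c} {c | ∃ h ∈ H, act h z' = c} :=
    fun z z' h => Set.disjoint_left.2 (by
      rintro _ ⟨g, hg, rfl⟩ ⟨g', hg', e⟩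
      exact h ⟨g'⁻¹ * g, H.mul_mem (H.inv_mem hg') hg, by rw [hm, ← e, ← hm, inv_mul_cancel, h1]⟩)
  have hs : ∀ z ∈ E, {c | ∃ h ∈ H, act h z = c} ⊆ E := by
    rintro z hz _ ⟨g, hg, rfl⟩
    exact hH g hg z hz
  have h2 : ¬ ∃ h ∈ H, act σ x = act h x := fun ⟨g, hg, e⟩ =>
    hne ⟨σ * g * σ⁻¹ * g, H.mul_mem ((Subgroup.mem_normalizer_iff.1 hσ g).1 hg) hg, by
      rw [hm _ g, ← e, ← hm, inv_mul_cancel_right, hm, hm, e]⟩
  refine three_sets hE ⟨x, hx⟩ (hs x hx) (hs _ (hσE x hx)) (hs _ (hσE _ (hσE x hx))) (hc x hx) (hc _ (hσE x hx))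
    (hc _ (hσE _ (hσE x hx))) (hd _ _ h2) (hd _ _ (by rwa [← hm])) (hd _ _ fun ⟨g, hg, e⟩ => h2
      ⟨σ⁻¹ * g * σ, (Subgroup.mem_normalizer_iff.1 hσ _).2 (by simpa [mul_assoc] using hg), ?_⟩)
  rw [hm, hm, ← e, ← hm, inv_mul_cancel, h1]

variable {p : ℕ} [Fact p.Prime] {M : Type*} [AddCommGroup M] [Module (ZMod p) M] [Finite M]
variable {G R A : Subgroup (M →ₗ[ZMod p] M)ˣ} {x y a a' c w : M →ₗ[ZMod p] M} {g ρ : (M →ₗ[ZMod p] M)ˣ}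

/-- coprime action -/
structure Cp {Γ : Type*} [Group Γ] (G R : Subgroup Γ) : Prop where
  norm : R ≤ Subgroup.normalizer (G : Set Γ)
  cop : (Nat.card R).Coprime (Nat.card G)

theorem Cp.nc {Γ : Type*} [Group Γ] {G R : Subgroup Γ} {ρ : Γ} (h : Cp G R) (hρ : ρ ∈ R) : G ^~ ρ = G :=
  rc_eq_self_iff_mem_normalizer.2 (h.norm hρ)

theorem Cp.fixed {Γ α : Type*} [Group Γ] [Finite Γ] {G R R' N : Subgroup Γ} (h : Cp G R) (act : Γ → α → α)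
    (h1 : ∀ a, act 1 a = a) (hm : ∀ g h a, act (g * h) a = act g (act h a)) (hR : R' ≤ R) (hN : N ≤ G)
    (hn : ∀ σ ∈ R', ∀ g ∈ N, σ * g * σ⁻¹ ∈ N) (a : α) (h2 : ∀ ρ ∈ R', ∃ n ∈ N, act ρ a = act n a) :
    ∃ n ∈ N, ∀ ρ ∈ R', act ρ (act n a) = act n a :=
  fixed_pt act h1 hm (norm_of_forall hn) ((h.cop.coprime_dvd_left (Subgroup.card_dvd_of_le hR)).coprime_dvd_right
    (Subgroup.card_dvd_of_le hN)) a h2

theorem exists_good (hp : 3 < p) (h : Cp G R) (hG : NoUnip (ZMod p) G) (hA : A ∈ quadraticRootSubgroups G) :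
    ∃ B, Conn (quadraticRootSubgroups G) A B ∧ Good G R B := by
  have hS := Sigma_RS (pf hp).two (pf hp).card hG
  obtain ⟨n, hn, hf⟩ := h.fixed (fun (g : (M →ₗ[ZMod p] M)ˣ) (C : Subgroup (M →ₗ[ZMod p] M)ˣ) => C ^~ g⁻¹)
    (by simp [rc_one]) (by simp [rc_rc]) (R' := R ⊓ CS G A) (N := G ⊓ CS G A) inf_le_left inf_le_left
    (fun σ hσ g hg => ⟨mem_rc.1 ((h.nc hσ.1).symm ▸ hg.1), (CS G A).mul_mem ((CS G A).mul_mem hσ.2 hg.2) ((CS G A).inv_mem hσ.2)⟩) A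
    fun ρ hρ => by
      obtain ⟨g, hg, e⟩ := comp_conj (CS_comp ((CS G A).inv_mem hρ.2) ⟨hA, Relation.ReflTransGen.refl⟩)
      have h1 := (biSup_mono fun _ hB => hB.1 : _ ≤ ⨆ B ∈ quadraticRootSubgroups G, B) hg
      have h2 : g ∈ G := (iSup₂_le fun _ => Sigma_le : _ ≤ G) h1
      exact ⟨g⁻¹, inv_mem ⟨h2, rc_of_mem h2, hS.conn_rc hA h1⟩, by rw [inv_inv, e]⟩
  have hB := ((CS G A).inv_mem hn.2).2
  refine ⟨_, hB, fun ρ hρ h2 => ?_⟩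
  simpa using hf ρ⁻¹ (inv_mem ⟨hρ, h.nc hρ, (hB.trans h2).trans (conn_nc (h.nc hρ) hB).symm'⟩)

theorem exists_good_opp (hp : 3 < p) (h : Cp G R) (hG : NoUnip (ZMod p) G) (hx : QD G x)
    (hA : Good G R (EE G x hx.sq)) : ∃ (y : M →ₗ[ZMod p] M) (hy : QD G y), MU x y ∧ Good G R (EE G y hy.sq) := by
  have hk := pf hp
  obtain ⟨y, hy, mu⟩ := hx.exists_opp hk.two hk.card hG
  have hU : ∀ g ∈ UG G mu, EE G x hx.sq ^~ g = EE G x hx.sq := fun g hg => by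
    rw [EE_rc hg.1]
    exact EE_congr (by rw [mul_assoc, ← UG_comm hg, Units.inv_mul_cancel_left]; exact Sim.refl x)
  have r1 := mu_r1 hk hx hy mu
  obtain ⟨n, hn, hf⟩ := h.fixed (fun (g : (M →ₗ[ZMod p] M)ˣ) (C : Subgroup (M →ₗ[ZMod p] M)ˣ) => C ^~ g⁻¹)
    (by simp [rc_one]) (by simp [rc_rc]) (R' := R ⊓ CS G (EE G x hx.sq))
    (N := G ⊓ Subgroup.normalizer (EE G x hx.sq : Set (M →ₗ[ZMod p] M)ˣ)) inf_le_left inf_le_left
    (fun σ hσ g hg => by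
      have h1 := rc_eq_self_iff_mem_normalizer.1 (hA σ hσ.1 hσ.2.2)
      exact ⟨mem_rc.1 ((h.nc hσ.1).symm ▸ hg.1), Subgroup.mul_mem _ (Subgroup.mul_mem _ h1 hg.2) (inv_mem h1)⟩) (EE G y hy.sq)
    fun ρ hρ => by
      obtain ⟨g, hg, e⟩ := opp_conj hk hx hy mu (Sigma_nc (h.nc (inv_mem hρ.1)) hy.EE_mem)
        (hA _ (inv_mem hρ.1) ((CS G _).inv_mem hρ.2).2 ▸ r1_rc r1 ρ⁻¹)
      exact ⟨g, ⟨hg.1, rc_eq_self_iff_mem_normalizer.1 (hU g hg)⟩, e.symm⟩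
  have hB : IsRankOnePair (EE G x hx.sq) (EE G y hy.sq ^~ n⁻¹) :=
    rc_eq_self_iff_mem_normalizer.2 (inv_mem hn.2) ▸ r1_rc r1 n⁻¹
  have hB' := Sigma_rc hy.EE_mem (inv_mem hn.1)
  generalize EE G y hy.sq ^~ n⁻¹ = B at hf hB hB'
  obtain ⟨b, hb, rfl⟩ := mem_Sigma.1 hB'
  obtain ⟨y', i, mu'⟩ := hx.exists_mu hk.two hk.card hb (hx.not_nil_of_r1 hk.two hb hB)
  refine ⟨y', i.qd hb (mu'.ne hx.ne), mu', ?_⟩
  rw [EE_congr (hb := hb.sq) (i.sim hb (mu'.ne hx.ne))]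
  intro ρ hρ h2
  have h3 := conn_of_r1 hx.EE_mem hB' hB
  simpa using hf ρ⁻¹ (inv_mem ⟨hρ, h.nc hρ, (h3.trans h2).trans (conn_nc (h.nc hρ) h3).symm'⟩)

theorem partner (hp : 3 < p) (hx : QD G x) (hy : QD G y) (mu : MU x y) (ha : InE G x a) (h0 : a ≠ 0) :
    ∃ b, InE G y b ∧ MU a b ∧ a * b = x * y ∧ b * a = y * x := by
  obtain ⟨b, hb, mu'⟩ := hx.partner (pf hp).two (pf hp).card hy (by rw [mu.efe]; exact hx.ne) ha h0
  exact ⟨b, hb, mu', same_idem hx hy mu mu' ha hb h0⟩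

theorem sq_mem (hp : 3 < p) (hx : QD G x) (hy : QD G y) (mu : MU x y) (ha : InE G x a) : InE G x (a * y * a) := by
  by_cases h0 : a = 0
  · simpa [h0] using InE.zero
  obtain ⟨b, hb, mu', e1, e2⟩ := partner hp hx hy mu ha h0
  have d := d2_of_inE mu ha
  have h1 := hy.qe.conj' (wey_mem mu' ha.qe hb.qe (t := 1) one_ne_zero) (by rw [wey_mul mu', tor_one])
  have h2 : wey a b (1 : ZMod p) * y * wey a b (-1 : ZMod p) = -(a * y * a) := by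
    simp only [wey, e1, e2, mul_add, add_mul, mul_sub, sub_mul, mul_one, one_mul, mul_assoc, inv_neg, inv_one, one_smul,
      neg_smul, mul_neg, hb.left mu.ff, z3 (hb.left mu.ff), hb.right mu.ff, mu.ff, z3 mu.ff, e4' mu.fef, e4 mu.fef,
      mul_zero, zero_mul]
    abel
  rw [h2] at h1
  exact inE_of_d2 (y := y) (by simpa using h1.neg) ⟨by rw [← mul_assoc, ← mul_assoc, d.l], by rw [mul_assoc, d.r]⟩

theorem two_to_one (hp : 3 < p) (hx : QD G x) (hy : QD G y) (mu : MU x y) (ha : InE G x a) (ha' : InE G x a')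
    (h : a * y * a = a' * y * a') : a' = a ∨ a' = -a := by
  let E : Submodule (ZMod p) (M →ₗ[ZMod p] M) :=
    { carrier := {c | InE G x c}
      add_mem' := fun h h' => h.add hx.sq h'
      zero_mem' := InE.zero
      smul_mem' := fun t _ h => h.smul t }
  have h0 : ∀ c, InE G x c → c * y = 0 → c = 0 := fun c hc e => by
    rw [← (d2_of_inE mu hc).r, ← mul_assoc, e, zero_mul]
  have := jordan (pf hp).two (E.map (mulRight (ZMod p) y)) (e := x * y) ⟨x, InE.self hx.qe, rfl⟩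
    (by rintro _ ⟨c, hc, rfl⟩; rw [mulRight_apply, ← mul_assoc, (d2_of_inE mu hc).l])
    (by rintro _ ⟨c, hc, rfl⟩; rw [mulRight_apply, mul_assoc, e4' mu.fef])
    (by rintro _ ⟨c, hc, rfl⟩; exact ⟨_, sq_mem hp hx hy mu hc, (mul_assoc _ _ _)⟩)
    (by
      rintro _ ⟨c, hc, rfl⟩ _ ⟨d, hd, rfl⟩ e
      by_cases c0 : c = 0
      · simp [c0]
      obtain ⟨b, -, -, -, e2⟩ := partner hp hx hy mu hc c0
      simp only [mulRight_apply] at e ⊢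
      exact Or.inr (by
        linear_combination (norm := noncomm_ring) x * b * e - x * e2 * y * d * y - x * mu.fef * d * y -
          (d2_of_inE mu hd).l * y))
    (s := (a' - a) * y) (t := (a' + a) * y) ⟨_, E.sub_mem ha' ha, rfl⟩ ⟨_, E.add_mem ha' ha, rfl⟩
    (by linear_combination (norm := noncomm_ring) -h * y - h * y)
  exact this.imp (fun e => sub_eq_zero.1 (h0 _ (E.sub_mem ha' ha) e))
    fun e => eq_neg_of_add_eq_zero_left (h0 _ (E.add_mem ha' ha) e)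

theorem orb (hp : 3 < p) (hx : QD G x) (hy : QD G y) (mu : MU x y) (ha : InE G x a) (h0 : a ≠ 0) :
    ∃ h ∈ Cent G (x * y) ⊓ Cent G (y * x), (h : M →ₗ[ZMod p] M) * x * (h⁻¹ : (M →ₗ[ZMod p] M)ˣ) = a * y * a := by
  obtain ⟨b, hb, mu', e1, e2⟩ := partner hp hx hy mu ha h0
  obtain ⟨h, hh, e⟩ := (wey_mem mu' ha.qe hb.qe (t := 1) one_ne_zero).mul
    (wey_mem mu hx.qe hy.qe (t := -1) (by simp))
  have s1 := wey_swap mu' (1 : ZMod p)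
  have s2 := wey_swap mu (-1 : ZMod p)
  rw [e1, e2] at s1
  have d := d2_of_inE mu ha
  refine ⟨h, ⟨⟨hh, ?_⟩, hh, ?_⟩, ?_⟩
  · rw [e, ← mul_assoc, ← s1.2, mul_assoc, ← s2.1, mul_assoc]
  · rw [e, ← mul_assoc, ← s1.1, mul_assoc, ← s2.2, mul_assoc]
  · have l1 : wey x y (-1 : ZMod p) * x = y * x := by
      simp [wey, add_mul, sub_mul, mu.efe, mul_assoc, mu.ee, e4' mu.efe]
    have l2 : wey a b (1 : ZMod p) * (b * a) = a := by
      simp [wey, add_mul, sub_mul, mul_assoc, z3 mu'.ff, e4' mu'.efe]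
    have l3 : a * wey a b (1 : ZMod p) = -(a * b) := by
      simp [wey, mul_add, mul_sub, z3 mu'.ee, mu'.ee, e4' mu'.efe]
    have l4 : y * wey x y (-1 : ZMod p) = -(y * x) := by
      simp [wey, mul_add, mul_sub, z3 mu.ff, mu.ff, e4' mu.fef]
    rw [Units.mul_inv_eq_iff_eq_mul, e, mul_assoc, l1, ← e2, l2, mul_assoc, ← mul_assoc a (wey a b 1), l3, e1]
    linear_combination (norm := noncomm_ring) a * mu.fef * wey x y (-1 : ZMod p) + a * l4 - d.r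

omit [Finite M] in
theorem inE_conj (hx : QD G x) (h : EE G x hx.sq ^~ g = EE G x hx.sq) (hc : InE G x c) :
    InE G x ((g : M →ₗ[ZMod p] M) * c * (g⁻¹ : (M →ₗ[ZMod p] M)ˣ)) := by
  have h1 := mem_EE.1 (mem_rc.1 (h.symm ▸ hc.un_mem))
  convert h1 using 1
  simp [mul_add, add_mul]

theorem fix_pair (hp : 3 < p) (h : Cp G R) (hx : QD G x) (hy : QD G y) (mu : MU x y)
    {R' : Subgroup (M →ₗ[ZMod p] M)ˣ} (hR : R' ≤ R) (h1 : ∀ ρ ∈ R', EE G x hx.sq ^~ ρ = EE G x hx.sq)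
    (h2 : ∀ ρ ∈ R', EE G y hy.sq ^~ ρ = EE G y hy.sq) : ∃ a b, InE G x a ∧ InE G y b ∧ a ≠ 0 ∧ MU a b ∧
      ∀ ρ ∈ R', (ρ : M →ₗ[ZMod p] M) * a = a * ρ ∧ (ρ : M →ₗ[ZMod p] M) * b = b * ρ := by
  have hk := pf hp
  have ne : ∀ (g : (M →ₗ[ZMod p] M)ˣ) (c : M →ₗ[ZMod p] M), c ≠ 0 →
      (g : M →ₗ[ZMod p] M) * c * (g⁻¹ : (M →ₗ[ZMod p] M)ˣ) ≠ 0 := fun g c hc e => hc (by simpa using e)
  have hef : ∀ ρ ∈ R', x * y * ρ = ρ * (x * y) ∧ y * x * ρ = ρ * (y * x) := fun ρ hρ => by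
    have := same_idem hx hy mu (mu_conj mu ρ.inv_mul) (inE_conj hx (h1 ρ hρ) (InE.self hx.qe))
      (inE_conj hy (h2 ρ hρ) (InE.self hy.qe)) (ne _ _ hx.ne)
    constructor
    · conv_lhs => rw [← this.1]
      simp [mul_assoc]
    · conv_lhs => rw [← this.2]
      simp [mul_assoc]
  have hn : ∀ σ ∈ R', ∀ g ∈ Cent G (x * y) ⊓ Cent G (y * x), σ * g * σ⁻¹ ∈ Cent G (x * y) ⊓ Cent G (y * x) := by
    intro σ hσ g hg
    have h3 : σ * g * σ⁻¹ ∈ Cent ⊤ (x * y) ⊓ Cent ⊤ (y * x) :=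
      have : σ ∈ Cent ⊤ (x * y) ⊓ Cent ⊤ (y * x) := ⟨⟨trivial, (hef σ hσ).1⟩, trivial, (hef σ hσ).2⟩
      mul_mem (mul_mem this ⟨⟨trivial, hg.1.2⟩, trivial, hg.2.2⟩) (inv_mem this)
    have h4 : σ * g * σ⁻¹ ∈ G := mem_rc.1 ((h.nc (hR hσ)).symm ▸ hg.1.1)
    exact ⟨⟨h4, h3.1.2⟩, h4, h3.2.2⟩
  have hH : ∀ g ∈ Cent G (x * y) ⊓ Cent G (y * x), ∀ z ∈ {c | InE G x c ∧ c ≠ 0},
      (g : M →ₗ[ZMod p] M) * z * (g⁻¹ : (M →ₗ[ZMod p] M)ˣ) ∈ {c | InE G x c ∧ c ≠ 0} := fun g hg z hz =>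
    ⟨inE_of_d2 (hz.1.qe.conj hg.1.1) ((d2_of_inE mu hz.1).conj hg.1.2.symm (inv_mem hg).2.2.symm), ne _ _ hz.2⟩
  have hodd : Odd (Nat.card R) := by
    obtain ⟨t, ht, e⟩ := tor_mem mu hx.qe hy.qe (t := -1) (by simp)
    have : orderOf t = 2 := orderOf_eq_prime (Units.ext (by
      rw [sq, Units.val_mul, e, tor_mul (id2_of_mu mu), neg_mul_neg, mul_one, tor_one, Units.val_one])) fun e1 => by
        have h3 := (tor_d2 (id2_of_mu mu) (d2_of_mu mu) (-1 : ZMod p)).1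
        rw [← e, e1, Units.val_one, one_mul, neg_smul, one_smul, eq_neg_iff_add_eq_zero, ← two_smul (ZMod p)] at h3
        exact hx.ne ((smul_eq_zero.1 h3).resolve_left hk.two)
    exact Nat.coprime_two_right.1 (h.cop.coprime_dvd_right (this ▸ G.orderOf_dvd_natCard ht))
  obtain ⟨n, hn', hf⟩ := h.fixed (fun (g : (M →ₗ[ZMod p] M)ˣ) (c : M →ₗ[ZMod p] M) =>
      (g : M →ₗ[ZMod p] M) * c * (g⁻¹ : (M →ₗ[ZMod p] M)ˣ)) (by simp) (by simp [mul_assoc]) hR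
    (N := Cent G (x * y) ⊓ Cent G (y * x)) (fun _ h => h.1.1) hn x fun ρ hρ => by
      obtain ⟨m, hm⟩ := hodd
      have h3 : ρ ^ (m + 1) * ρ ^ (m + 1) = ρ := by
        have := orderOf_dvd_iff_pow_eq_one.1 (hm ▸ R.orderOf_dvd_natCard (hR hρ))
        rw [← pow_add, show m + 1 + (m + 1) = 2 * m + 1 + 1 by ring, pow_succ, this, one_mul]
      rw [← h3]
      refine orbit_fix (fun (g : (M →ₗ[ZMod p] M)ˣ) (c : M →ₗ[ZMod p] M) =>
        (g : M →ₗ[ZMod p] M) * c * (g⁻¹ : (M →ₗ[ZMod p] M)ˣ)) (by simp) (by simp [mul_assoc])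
        (E := {c | InE G x c ∧ c ≠ 0}) (Set.toFinite _) hH (fun z hz => ?_) (norm_of_forall hn (pow_mem hρ _))
        (fun z hz => ⟨inE_conj hx (h1 _ (pow_mem hρ _)) hz.1, ne _ _ hz.2⟩) ⟨InE.self hx.qe, hx.ne⟩
      obtain ⟨w, hw, mu', e1, e2⟩ := partner hp hx hy mu hz.1 hz.2
      have s := (hz.1.sim hx hz.2).symm
      have hw' := hw.qd hy (mu'.ne hz.2)
      refine ncard_le_two_mul (Set.toFinite _) (Set.toFinite _) (fun a => a * w * a) (fun a ha => ?_)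
        fun a ha b hb => two_to_one hp (hz.1.qd hx hz.2) hw' mu' (ha.1.congr s) (hb.1.congr s)
      rw [← e1, ← e2]
      exact orb hp (hz.1.qd hx hz.2) hw' mu' (ha.1.congr s) ha.2
  have ha := hH n hn' x ⟨InE.self hx.qe, hx.ne⟩
  obtain ⟨b, hb, mu', e1, e2⟩ := partner hp hx hy mu ha.1 ha.2
  refine ⟨_, b, ha.1, hb, ha.2, mu', fun ρ hρ => ⟨(Units.mul_inv_eq_iff_eq_mul _).1 (hf ρ hρ), ?_⟩⟩
  have mu2 := mu_conj mu' ρ.inv_mul
  rw [hf ρ hρ] at mu2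
  have h4 := same_idem hx hy mu mu2 ha.1 (inE_conj hy (h2 ρ hρ) hb) ha.2
  rw [← Units.mul_inv_eq_iff_eq_mul, ← mu2.fef, h4.2, ← e2, mul_assoc b, h4.1, ← e1, ← mul_assoc, mu'.fef]

/-- a nontrivial quadratic element forces `SL₂(p)`, modulo a central subgroup, in the fixed points -/
theorem quad (hp : 3 < p) (h : Cp G R) (hG : NoUnip (ZMod p) G) (hg : g ∈ G) (hg1 : g ≠ 1)
    (hq : ((g : M →ₗ[ZMod p] M) - 1) * ((g : M →ₗ[ZMod p] M) - 1) = 0) :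
    ∃ Φ : Matrix.SpecialLinearGroup (Fin 2) (ZMod p) →* (M →ₗ[ZMod p] M)ˣ, (∀ s, Φ s ∈ G) ∧
      (∀ s, Φ s ∈ Subgroup.centralizer (R : Set (M →ₗ[ZMod p] M)ˣ)) ∧ Φ.ker ≤ Subgroup.center _ := by
  have hk := pf hp
  have hS := Sigma_RS hk.two hk.card hG
  obtain ⟨x₀, hx₀⟩ := exists_QD (qe_of_inG' (G := G) hk hq (by simpa using InG.of_mem hg))
    fun e => hg1 (Units.ext (sub_eq_zero.1 e))
  obtain ⟨A, hCA, gA⟩ := exists_good hp h hG hx₀.EE_mem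
  obtain ⟨x, hx, rfl⟩ := mem_Sigma.1 (hCA.mem hx₀.EE_mem)
  obtain ⟨y, hy, mu, gB⟩ := exists_good_opp hp h hG hx gA
  have cAB := conn_of_r1 hx.EE_mem hy.EE_mem (mu_r1 hk hx hy mu)
  obtain ⟨a, b, ha, hb, a0, mu', hf⟩ := fix_pair hp h hx hy mu (R' := R ⊓ CS G (EE G x hx.sq)) inf_le_left
    (fun ρ hρ => gA ρ hρ.1 hρ.2.2) fun ρ hρ =>
      gB ρ hρ.1 ((cAB.symm'.trans hρ.2.2).trans (conn_nc (h.nc hρ.1) cAB))
  obtain ⟨φ, hu, hl⟩ := mu'.exists_hom (k := ZMod p)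
  have key : ∀ K : Subgroup (M →ₗ[ZMod p] M)ˣ, (∀ t, φ (xu t) ∈ K) → (∀ t, φ (xl t) ∈ K) → ∀ s, φ s ∈ K :=
    fun K h1 h2 s => (sl2_eq_top (H := K.comap φ) h1 h2).ge (Subgroup.mem_top s)
  have hAB : ∀ s, φ s ∈ EE G x hx.sq ⊔ EE G y hy.sq := key _
    (fun t => Subgroup.mem_sup_left (by rw [mem_EE, hu, add_sub_cancel_left]; exact ha.smul t))
    fun t => Subgroup.mem_sup_right (by rw [mem_EE, hl, add_sub_cancel_left]; exact hb.smul t)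
  obtain ⟨Φ, h1, h2, h3⟩ := diag φ G R
    (fun ρ hρ s => mem_rc.1 ((h.nc hρ).symm ▸ (sup_le EE_le EE_le : _ ≤ G) (hAB s))) fun ρ hρ => by
      by_cases hc : Conn (quadraticRootSubgroups G) (EE G x hx.sq) (EE G x hx.sq ^~ ρ⁻¹)
      · have h4 := hf ρ (by simpa using inv_mem (show ρ⁻¹ ∈ R ⊓ CS G _ from ⟨R.inv_mem hρ, h.nc (inv_mem hρ), hc⟩))
        refine Or.inl fun s => mul_inv_eq_iff_eq_mul.2 (key (Subgroup.centralizer {ρ}) (fun t => ?_) (fun t => ?_) s ρ rfl)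
        · rintro _ rfl
          exact Units.ext (by simp [hu, mul_add, add_mul, h4.1])
        · rintro _ rfl
          exact Units.ext (by simp [hl, mul_add, add_mul, h4.2])
      · have n := h.nc (inv_mem hρ)
        have cA := conn_nc n cAB
        have h4 : Cm (EE G x hx.sq ⊔ EE G y hy.sq) ((EE G x hx.sq ⊔ EE G y hy.sq) ^~ ρ⁻¹) := by
          rw [rc_sup]
          exact Cm.sup_left (Cm.sup_right (hS.cm_of_not_conn hx.EE_mem (Sigma_nc n hx.EE_mem) hc)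
            (hS.cm_of_not_conn hx.EE_mem (Sigma_nc n hy.EE_mem) fun h5 => hc (h5.trans cA.symm')))
            (Cm.sup_right (hS.cm_of_not_conn hy.EE_mem (Sigma_nc n hx.EE_mem) fun h5 => hc (cAB.trans h5))
            (hS.cm_of_not_conn hy.EE_mem (Sigma_nc n hy.EE_mem) fun h5 => hc ((cAB.trans h5).trans cA.symm')))
        exact Or.inr fun s s' => h4 _ (hAB s) _ (by simpa using conj_mem_rc (hAB s') ρ⁻¹)
  refine ⟨Φ, h1, h2, sl2_ker_central Φ fun h4 => a0 ?_⟩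
  have h5 := congrArg Units.val (h3 (xu 1 * xl 1 * xu (-1) * xl (-1)) (by
    rw [map_mul, map_mul, map_mul, h4, mul_assoc (Φ _), ← map_mul, ← xu_add, add_neg_cancel, xu_zero, map_one, mul_one,
      ← map_mul, ← xl_add, add_neg_cancel, xl_zero, map_one]) (xu 1)).eq
  simp only [map_mul, Units.val_mul, hu, hl, one_smul, neg_smul] at h5
  have h6 := congrArg (fun z => a * b * a * z * b * a) h5
  simp only [mul_add, add_mul, mul_one, one_mul, mul_assoc, mul_neg, neg_mul, mu'.ee, z3 mu'.ee, mu'.ff, z3 mu'.ff,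
    e4 mu'.efe, e4' mu'.efe, e4 mu'.fef, e4' mu'.fef, mul_zero, zero_mul, neg_zero, neg_neg] at h6
  simpa using h6

end Cfsg.Agent.GZJ
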